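import Groth.Prelude.Def_Twist2
import Groth.Prelude.Def_FlatMod2
import Groth.Agent.Lib.KunExt22.Kunneth
import Groth.Agent.Lib.BCAcyc22.CechStep
import Groth.Agent.Lib.HilbStrat10.Transfer
import Groth.Agent.Lib.ProjCohom.Results
import Groth.Agent.Lib.ProjPic26.Relative
import Groth.Agent.Lib.Cube.Square
import Groth.Agent.Lib.DiagGrp.TrivOver
import Groth.Agent.Lib.AugId.Graded
import Groth.Agent.Lib.CMReg.Koszul
import Groth.Agent.Lib.CMReg.Free
import Groth.Agent.Lib.CMReg.StructureRegular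
import Groth.Agent.Lib.CMReg.StructureMain
import Groth.Agent.Lib.DualQCoh12.PSpace
import Groth.Agent.Lib.EulerPull.Basic
import Groth.Agent.Lib.OX.SingleDegree
import Groth.Agent.Lib.HodgeIndex.Deg

/-!
# Twists on the quadric surface
-/

universe u

set_option autoImplicit false
set_option linter.all false
set_option backward.isDefEq.respectTransparency false
set_option maxHeartbeats 1000000

open CategoryTheory CategoryTheory.Limits AlgebraicGeometry TensorProduct

noncomputable section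

namespace GrothLib.Quad12

open GrothLib.Cube (Pic clsMod pull HasCls hasCls_clsMod)
open GrothLib.HodgeIndex (rep isInv_rep cls_rep)

variable (k : Type u) [Field k]

/-- The quadric. -/
abbrev Z : Scheme.{u} := pullback (CohB1.ProjSpace.toSpec 1 k) (CohB1.ProjSpace.toSpec 1 k)

abbrev pr1 : Z k ⟶ CohB1.ProjSpace 1 k := pullback.fst (CohB1.ProjSpace.toSpec 1 k) (CohB1.ProjSpace.toSpec 1 k)

abbrev pr2 : Z k ⟶ CohB1.ProjSpace 1 k := pullback.snd (CohB1.ProjSpace.toSpec 1 k) (CohB1.ProjSpace.toSpec 1 k)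

/-- The bidegree twists. -/
abbrev O2 (a b : ℤ) : (Z k).Modules :=
  CohB1.tensorMod ((Scheme.Modules.pullback (pr1 k)).obj (Twist.twistProjSpace 1 k a))
    ((Scheme.Modules.pullback (pr2 k)).obj (Twist.twistProjSpace 1 k b))

/-- Their classes. -/
def cl (a b : ℤ) : Pic (Z k) :=
  pull (pr1 k) (ProjPic26.tw 1 k a) * pull (pr2 k) (ProjPic26.tw 1 k b)

theorem hasCls_pr (p : Z k ⟶ CohB1.ProjSpace 1 k) (t : ℤ) :
    HasCls ((Scheme.Modules.pullback p).obj (Twist.twistProjSpace 1 k t)) (pull p (ProjPic26.tw 1 k t)) :=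
  (hasCls_clsMod (ProjPic26.isInvertible_twistProjSpace 1 k t)).pullback p

theorem hasCls_O2 (a b : ℤ) : HasCls (O2 k a b) (cl k a b) := (hasCls_pr k _ a).tensor (hasCls_pr k _ b)

theorem cl_mul (a b a' b' : ℤ) : cl k a b * cl k a' b' = cl k (a + a') (b + b') := by
  unfold cl
  rw [ProjPic26.tw_add, ProjPic26.tw_add, map_mul, map_mul, mul_mul_mul_comm]

theorem cl_zero : cl k 0 0 = 1 := by
  unfold cl
  rw [ProjPic26.tw_eq_zpow, zpow_zero, map_one, map_one, mul_one]

theorem flat_pr (p : Z k ⟶ CohB1.ProjSpace 1 k) (h : p = pr1 k ∨ p = pr2 k) : Flat p := by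
  haveI : Flat (CohB1.ProjSpace.toSpec 1 k) := DiagGrp.flat_of_field _
  rcases h with rfl | rfl <;> infer_instance

/-- Vanishing of a cohomology group of a twist. -/
theorem subsingleton_O2 (a b : ℤ) (n : ℕ)
    (h : ∀ i j : ℕ, i + j = n → ((¬ (i = 0 ∧ 0 ≤ a) ∧ ¬ (i = 1 ∧ a ≤ -2)) ∨ (¬ (j = 0 ∧ 0 ≤ b) ∧ ¬ (j = 1 ∧ b ≤ -2)))) :
    Subsingleton (Coh.HH (Z k) (O2 k a b) n) := by
  let f := CohB1.ProjSpace.toSpec 1 k
  haveI : IsProper f := Chow.isProper_toSpec 1 k
  letI : (CohB1.ProjSpace 1 k).Over (Spec (CommRingCat.of k)) := ⟨f⟩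
  have hA := Euler.isCoh_of_isInvertible (ProjPic26.isInvertible_twistProjSpace 1 k a)
  have hB := Euler.isCoh_of_isInvertible (ProjPic26.isInvertible_twistProjSpace 1 k b)
  haveI : ∀ p, Module.Free k (Coh.HH (CohB1.ProjSpace 1 k) (Twist.twistProjSpace 1 k a) p) :=
    fun p => Module.Free.of_divisionRing _ _
  obtain ⟨e⟩ := KunExt22.nonempty_kunneth (f₁ := f) (f₂ := f) (IsPullback.of_hasPullback f f).flip
    (Twist.twistProjSpace 1 k a) hA.1
    (BCAcyc22.affFlat_of_isFlatOver f _ hA.1 (HilbStrat10.isFlatOver_field f _))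
    (Twist.twistProjSpace 1 k b) hB.1
    (fun p => by
      show Module.Flat k (Coh.HH (CohB1.ProjSpace 1 k) (Twist.twistProjSpace 1 k a) p)
      infer_instance) n (κ := Fin (n + 1)) (fun j => j.1) (fun j => n - j.1) (fun j => by omega)
    (fun j l h => Fin.ext h) (fun i j h => ⟨⟨i, by omega⟩, rfl⟩)
  letI : ∀ p, Module k (Coh.HH (CohB1.ProjSpace 1 k) (Twist.twistProjSpace 1 k a) p) := BCCoh.modHH f _
  letI : ∀ q, Module k (Coh.HH (CohB1.ProjSpace 1 k) (Twist.twistProjSpace 1 k b) q) := BCCoh.modHH f _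
  haveI : ∀ j : Fin (n + 1), Subsingleton (Coh.HH (CohB1.ProjSpace 1 k) (Twist.twistProjSpace 1 k a) j.1 ⊗[k]
      Coh.HH (CohB1.ProjSpace 1 k) (Twist.twistProjSpace 1 k b) (n - j.1)) := fun j => by
    rcases h j.1 (n - j.1) (by omega) with ⟨h0, h1⟩ | ⟨h0, h1⟩
    · haveI := ProjCohom.subsingleton_HH (R := k) (n := 1) (d := a) (q := j.1) h0 (by simpa using h1)
      exact subsingleton_of_forall_eq 0 fun x => by
        induction x using TensorProduct.induction_on with
        | zero => rfl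
        | tmul p q => rw [Subsingleton.elim p 0, TensorProduct.zero_tmul]
        | add p q hp hq => rw [hp, hq, add_zero]
    · haveI := ProjCohom.subsingleton_HH (R := k) (n := 1) (d := b) (q := n - j.1) h0 (by simpa using h1)
      exact subsingleton_of_forall_eq 0 fun x => by
        induction x using TensorProduct.induction_on with
        | zero => rfl
        | tmul p q => rw [Subsingleton.elim q 0, TensorProduct.tmul_zero]
        | add p q hp hq => rw [hp, hq, add_zero]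
  exact e.symm.toEquiv.subsingleton

instance overZ : (Z k).Over (Spec (CommRingCat.of k)) := ⟨pr1 k ≫ CohB1.ProjSpace.toSpec 1 k⟩

/-- The number of sections of an effective twist. -/
theorem finrank_O2 (a b : ℕ) :
    Module.finrank k (Coh.HH (Z k) (O2 k a b) 0) = (a + 1) * (b + 1) := by
  let f := CohB1.ProjSpace.toSpec 1 k
  haveI : IsProper f := Chow.isProper_toSpec 1 k
  letI : (CohB1.ProjSpace 1 k).Over (Spec (CommRingCat.of k)) := ⟨f⟩
  have hA := Euler.isCoh_of_isInvertible (ProjPic26.isInvertible_twistProjSpace 1 k (a : ℤ))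
  have hB := Euler.isCoh_of_isInvertible (ProjPic26.isInvertible_twistProjSpace 1 k (b : ℤ))
  haveI : ∀ p, Module.Free k (Coh.HH (CohB1.ProjSpace 1 k) (Twist.twistProjSpace 1 k (a : ℤ)) p) :=
    fun p => Module.Free.of_divisionRing _ _
  obtain ⟨e⟩ := KunExt22.nonempty_kunneth (f₁ := f) (f₂ := f) (IsPullback.of_hasPullback f f).flip
    (Twist.twistProjSpace 1 k (a : ℤ)) hA.1
    (BCAcyc22.affFlat_of_isFlatOver f _ hA.1 (HilbStrat10.isFlatOver_field f _))
    (Twist.twistProjSpace 1 k (b : ℤ)) hB.1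
    (fun p => by
      show Module.Flat k (Coh.HH (CohB1.ProjSpace 1 k) (Twist.twistProjSpace 1 k (a : ℤ)) p)
      infer_instance) 0 (κ := Fin 1) (fun _ => 0) (fun _ => 0) (fun j => rfl)
    (fun j l h => Subsingleton.elim j l) (fun i j h => ⟨0, by omega⟩)
  have e' : ((j : Fin 1) → Coh.HH (CohB1.ProjSpace 1 k) (Twist.twistProjSpace 1 k (a : ℤ)) 0 ⊗[k]
      Coh.HH (CohB1.ProjSpace 1 k) (Twist.twistProjSpace 1 k (b : ℤ)) 0) ≃ₗ[k] Coh.HH (Z k) (O2 k a b) 0 := e
  obtain ⟨ea⟩ := ProjCohom.nonempty_HH_zero (R := k) (n := 1) a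
  obtain ⟨eb⟩ := ProjCohom.nonempty_HH_zero (R := k) (n := 1) b
  rw [← e'.finrank_eq, (LinearEquiv.funUnique (Fin 1) k _).finrank_eq]
  rw [Module.finrank_tensorProduct, ea.finrank_eq, eb.finrank_eq, AugId.finrank_homogeneous,
    AugId.finrank_homogeneous]
  congr 1 <;> simp [Nat.add_comm 2]

end GrothLib.Quad12
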