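import Groth.Agent.Lib.Quad12.Twists
import Groth.Agent.Lib.OmegaPn27.Bott
import Groth.Agent.Lib.OX.LocFreeTensor
import Groth.Agent.Lib.ExtLocFree8.Complement
import Groth.Agent.Lib.Euler.Basic
import Groth.Agent.Lib.CurveRR.Dual

/-!
# Cohomology of kernels on the quadric surface
-/

universe u

set_option autoImplicit false
set_option linter.all false
set_option backward.isDefEq.respectTransparency false
set_option maxHeartbeats 1000000

open CategoryTheory CategoryTheory.Limits AlgebraicGeometry TensorProduct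

noncomputable section

namespace GrothLib.Quad12

open GrothLib.Cube (Pic clsMod pull HasCls hasCls_clsMod)
open GrothLib.HodgeIndex (rep isInv_rep cls_rep)

/-- Tensoring on the right. -/
abbrev tT {X : Scheme.{u}} (T : X.Modules) : X.Modules ⥤ X.Modules := (DCoh.tensorBi (X := X)).flip.obj T

theorem hasCls_rep' {X : Scheme.{u}} (z : Pic X) : HasCls (rep z) z := ⟨isInv_rep z, cls_rep z⟩

theorem flat_rep {X : Scheme.{u}} (z : Pic X) : FlatMod.IsFlat (rep z) :=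
  OX.flat_of_isFinLocFree (Euler.isFinLocFree_of_isInvertible (isInv_rep z))

/-- Moving an invertible factor. -/
theorem nonempty_move {X : Scheme.{u}} {A F T : X.Modules} {a z w : Pic X} (hA : HasCls A a) (hT : HasCls T z)
    (h : z * a = w) : Nonempty (CohB1.tensorMod A (CohB1.tensorMod F T) ≅ CohB1.tensorMod F (rep w)) := by
  obtain ⟨e⟩ := (hT.tensor hA).iso (hasCls_rep' w) h
  exact ⟨GrTilde.tensorModComm A (CohB1.tensorMod F T) ≪≫ OX.tensorAssoc F T A ≪≫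
    Ample.LineData.tensorModMapIso (Iso.refl F) e⟩

variable (k : Type u) [Field k]

/-- The step in one direction. -/
theorem step (p : Z k ⟶ CohB1.ProjSpace 1 k) [Flat p] {F : (Z k).Modules} (hF : FlatMod.IsFinLocFree F)
    (z : Pic (Z k)) (h1 : Subsingleton (Coh.HH (Z k) (CohB1.tensorMod F (rep z)) 1))
    (h2 : Subsingleton (Coh.HH (Z k) (CohB1.tensorMod F (rep (z * (pull p (ProjPic26.tw 1 k 1))⁻¹))) 2)) :
    ∀ a : ℕ, Subsingleton (Coh.HH (Z k) (CohB1.tensorMod F (rep (z * (pull p (ProjPic26.tw 1 k 1)) ^ a))) 1) := by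
  obtain ⟨j, hj, ι, w, hS, hjs, ⟨e1⟩⟩ := CMReg.exists_hyperplane (n := 0) (k := k)
  set e := pull p (ProjPic26.tw 1 k 1) with he
  let B := (Scheme.Modules.pullback p).obj ((Coh.push j).obj (Coh.structureModule (CohB1.ProjSpace 0 k)))
  have hA : HasCls ((Scheme.Modules.pullback p).obj (Twist.twistProjSpace 1 k (-1))) e⁻¹ := by
    have h := hasCls_pr k p (-1)
    rwa [ProjPic26.tw_eq_zpow, zpow_neg, zpow_one, map_inv] at h
  have hOc : HasCls ((Scheme.Modules.pullback p).obj (Coh.structureModule (CohB1.ProjSpace 1 k))) (1 : Pic (Z k)) := by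
    have h := (Cube.hasCls_structureModule (CohB1.ProjSpace 1 k)).pullback p
    rwa [map_one] at h
  have seq : ∀ v : Pic (Z k), ∃ S : ShortComplex (Z k).Modules, S.ShortExact ∧
      Nonempty (S.X₁ ≅ CohB1.tensorMod F (rep (v * e⁻¹))) ∧ Nonempty (S.X₂ ≅ CohB1.tensorMod F (rep v)) ∧
      Nonempty (S.X₃ ≅ CohB1.tensorMod B (CohB1.tensorMod F (rep v))) := fun v => by
    have hS1 := EulerPull.shortExact_pullback p hS
    refine ⟨_, OX.tensor_map_shortExact (F := CohB1.tensorMod F (rep v))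
      (OX.flat_of_isFinLocFree (OX.isFinLocFree_tensor hF (Euler.isFinLocFree_of_isInvertible (isInv_rep v)))) hS1,
      nonempty_move hA (hasCls_rep' v) rfl, nonempty_move hOc (hasCls_rep' v) (mul_one v), ⟨Iso.refl _⟩⟩
  have hB : ∀ a : ℕ, Nonempty (CohB1.tensorMod B (CohB1.tensorMod F (rep (z * e ^ a))) ≅
      CohB1.tensorMod B (CohB1.tensorMod F (rep z))) := fun a => by
    let A := (Scheme.Modules.pullback p).obj (Twist.twistProjSpace 1 k (a : ℤ))
    have hAc : HasCls A (e ^ a) := by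
      have h := hasCls_pr k p (a : ℤ)
      rwa [ProjPic26.tw_eq_zpow, zpow_natCast, map_pow] at h
    obtain ⟨q1⟩ := CMReg.nonempty_tensorMod_push j (Twist.twistProjSpace 1 k (a : ℤ))
      (Euler.isFinLocFree_of_isInvertible (ProjPic26.isInvertible_twistProjSpace 1 k _))
    obtain ⟨q2⟩ := CMReg.nonempty_pullback_twist ⟨e1⟩ (a : ℤ)
    obtain ⟨q3⟩ := DualQCoh12.nonempty_twist_iso_zero (R := k) (a : ℤ)
    let q : CohB1.tensorMod B A ≅ B := (OX.pullTensorIso p _ _).symm ≪≫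
      (Scheme.Modules.pullback p).mapIso (q1 ≪≫ (Scheme.Modules.pushforward j).mapIso (q2 ≪≫ q3.symm))
    obtain ⟨g⟩ := (hAc.tensor (hasCls_rep' z)).iso (hasCls_rep' (z * e ^ a)) (mul_comm _ _)
    exact ⟨Ample.LineData.tensorModMapIso (Iso.refl B)
        (GrTilde.tensorModComm F (rep (z * e ^ a)) ≪≫ Ample.LineData.tensorModMapIso g.symm (Iso.refl F) ≪≫
          OX.tensorAssoc A (rep z) F) ≪≫
      (OX.tensorAssoc B A (CohB1.tensorMod (rep z) F)).symm ≪≫
      Ample.LineData.tensorModMapIso q (GrTilde.tensorModComm (rep z) F)⟩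
  obtain ⟨S, hS', ⟨i1⟩, ⟨i2⟩, ⟨i3⟩⟩ := seq z
  have h3 : Subsingleton (Coh.HH (Z k) (CohB1.tensorMod B (CohB1.tensorMod F (rep z))) 1) :=
    CMReg.subsingleton_of_iso i3 (CMReg.subsingleton_X₃ hS' (CMReg.subsingleton_of_iso i2.symm h1)
      (CMReg.subsingleton_of_iso i1.symm h2))
  intro a
  induction a with
  | zero => rw [pow_zero, mul_one]; exact h1
  | succ a ih =>
    obtain ⟨S, hS', ⟨i1⟩, ⟨i2⟩, ⟨i3⟩⟩ := seq (z * e ^ (a + 1))
    refine CMReg.subsingleton_of_iso i2 (CMReg.subsingleton_X₂ hS' (CMReg.subsingleton_of_iso i1.symm ?_)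
      (CMReg.subsingleton_of_iso i3.symm (CMReg.subsingleton_of_iso (hB (a + 1)).some.symm h3)))
    rw [pow_succ, ← mul_assoc, mul_inv_cancel_right]
    exact ih

/-- A twisted sum of equal twists. -/
theorem subsingleton_sigma_twist {M : (Z k).Modules} {r : ℕ} {a b : ℤ} (e : M ≅ ∐ fun _ : Fin r => O2 k a b)
    (a' b' : ℤ) (n : ℕ)
    (h : ∀ i j : ℕ, i + j = n → ((¬ (i = 0 ∧ 0 ≤ a + a') ∧ ¬ (i = 1 ∧ a + a' ≤ -2)) ∨
      (¬ (j = 0 ∧ 0 ≤ b + b') ∧ ¬ (j = 1 ∧ b + b' ≤ -2)))) :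
    Subsingleton (Coh.HH (Z k) (CohB1.tensorMod M (rep (cl k a' b'))) n) := by
  obtain ⟨g⟩ := ((hasCls_O2 k a b).tensor (hasCls_rep' (cl k a' b'))).iso (hasCls_O2 k (a + a') (b + b'))
    (cl_mul k a b a' b')
  refine CMReg.subsingleton_of_iso (Ample.LineData.tensorModMapIso e (Iso.refl _) ≪≫
    CMReg.tensorSigmaIso (fun _ : Fin r => O2 k a b) (rep (cl k a' b'))).symm ?_
  exact CMReg.subsingleton_HH_sigma _ fun _ => CMReg.subsingleton_of_iso g.symm (subsingleton_O2 k _ _ n h)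

theorem finrank_sigma {M : (Z k).Modules} {r a b : ℕ} (e : M ≅ ∐ fun _ : Fin r => O2 k a b) :
    Module.Finite k (Coh.HH (Z k) M 0) ∧ Module.finrank k (Coh.HH (Z k) M 0) = r * ((a + 1) * (b + 1)) := by
  obtain ⟨σ⟩ := OmegaPn27.nonempty_HH_sigma (A := k) (O2 k (a : ℤ) (b : ℤ)) r 0
  let f := (Euler.hhEquiv (A := k) e 0).trans σ
  haveI : Module.Finite k (Coh.HH (Z k) (O2 k (a : ℤ) (b : ℤ)) 0) :=
    Module.finite_of_finrank_pos (by rw [finrank_O2]; positivity)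
  exact ⟨Module.Finite.equiv f.symm, by rw [f.finrank_eq, Module.finrank_pi_fintype, finrank_O2]; simp⟩

variable {k} in
theorem finrank_biprod (M N : (Z k).Modules) [Module.Finite k (Coh.HH (Z k) M 0)] [Module.Finite k (Coh.HH (Z k) N 0)] :
    Module.Finite k (Coh.HH (Z k) (M ⊞ N) 0) ∧ Module.finrank k (Coh.HH (Z k) (M ⊞ N) 0) =
      Module.finrank k (Coh.HH (Z k) M 0) + Module.finrank k (Coh.HH (Z k) N 0) := by
  let f : Coh.HH (Z k) (M ⊞ N) 0 ≃ₗ[k] Coh.HH (Z k) M 0 × Coh.HH (Z k) N 0 :=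
    { (Cohom.hhMap k (biprod.fst : M ⊞ N ⟶ M) 0).prod (Cohom.hhMap k (biprod.snd : M ⊞ N ⟶ N) 0) with
      invFun := fun x => Cohom.hhMap k (biprod.inl : M ⟶ M ⊞ N) 0 x.1 + Cohom.hhMap k (biprod.inr : N ⟶ M ⊞ N) 0 x.2
      left_inv := fun x => by
        show Cohom.hhMap k _ 0 (Cohom.hhMap k _ 0 x) + Cohom.hhMap k _ 0 (Cohom.hhMap k _ 0 x) = x
        rw [← Euler.hhMap_comp, ← Euler.hhMap_comp, ← CurveRR.hhMap_add, biprod.total, Euler.hhMap_id]
      right_inv := fun x => by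
        have hz : ∀ {A B : (Z k).Modules} (y : Coh.HH (Z k) A 0), Cohom.hhMap k (0 : A ⟶ B) 0 y = 0 := fun {A B} y => by
          have h := CurveRR.hhMap_add (A := k) (0 : A ⟶ B) 0 0 y
          rw [add_zero] at h
          exact add_eq_left.1 h.symm
        show (Cohom.hhMap k _ 0 (_ + _), Cohom.hhMap k _ 0 (_ + _)) = x
        rw [map_add, map_add, ← Euler.hhMap_comp, ← Euler.hhMap_comp, ← Euler.hhMap_comp, ← Euler.hhMap_comp,
          biprod.inl_fst, biprod.inr_fst, biprod.inl_snd, biprod.inr_snd, Euler.hhMap_id, Euler.hhMap_id, hz, hz,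
          add_zero, zero_add] }
  exact ⟨Module.Finite.equiv f.symm, by rw [f.finrank_eq, Module.finrank_prod]⟩

/-- **The vanishings for the kernel.** -/
theorem kernel_vanish (r : ℕ) (Q₁ Q₂ P : (Z k).Modules) (e₁ : Q₁ ≅ ∐ fun _ : Fin r => O2 k 1 0)
    (e₂ : Q₂ ≅ ∐ fun _ : Fin r => O2 k 0 1) (e₃ : P ≅ ∐ fun _ : Fin r => O2 k 1 1) (m : Q₁ ⊞ Q₂ ⟶ P) [Epi m]
    (hm0 : Function.Surjective (Cohom.hhMap k m 0)) :
    Subsingleton (Coh.HH (Z k) (kernel m) 0) ∧ Subsingleton (Coh.HH (Z k) (kernel m) 1) ∧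
      Subsingleton (Coh.HH (Z k) (CohB1.tensorMod (kernel m) (O2 k (-2) (-2))) 2) ∧
      ∀ t : ℤ, Subsingleton (Coh.HH (Z k) (CohB1.tensorMod (kernel m) (O2 k (2 * t) (2 * t))) 1) := by
  haveI : IsProper ((Z k) ↘ Spec (CommRingCat.of k)) := by
    haveI : IsProper (CohB1.ProjSpace.toSpec 1 k) := Chow.isProper_toSpec 1 k
    show IsProper (pr1 k ≫ CohB1.ProjSpace.toSpec 1 k)
    infer_instance
  haveI := Euler.isNoetherian_of_proper (X := Z k) k
  have hlf : ∀ {M : (Z k).Modules} {a b : ℤ}, (M ≅ ∐ fun _ : Fin r => O2 k a b) → FlatMod.IsFinLocFree M :=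
    fun {M a b} e => DCoh.isFinLocFree_of_iso e.symm
      (OX.isFinLocFree_sigma _ fun _ => Euler.isFinLocFree_of_isInvertible (hasCls_O2 k a b).1)
  have hF : FlatMod.IsFinLocFree (kernel m) :=
    OX.isFinLocFree_kernel m (ExtLocFree8.isFinLocFree_biprod (hlf e₁) (hlf e₂)) (hlf e₃)
  let S₀ := ShortComplex.mk (kernel.ι m) m (kernel.condition m)
  have hS₀ : S₀.ShortExact := { exact := ShortComplex.exact_of_f_is_kernel S₀ (kernelIsKernel m) }
  have hspl := (ShortComplex.Splitting.ofHasBinaryBiproduct Q₁ Q₂).shortExact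
  have hQ : ∀ (a b : ℤ) (n : ℕ),
      Subsingleton (Coh.HH (Z k) (CohB1.tensorMod Q₁ (rep (cl k a b))) n) →
      Subsingleton (Coh.HH (Z k) (CohB1.tensorMod Q₂ (rep (cl k a b))) n) →
      Subsingleton (Coh.HH (Z k) (CohB1.tensorMod (Q₁ ⊞ Q₂) (rep (cl k a b))) n) := fun a b n h1 h2 =>
    CMReg.subsingleton_X₂ (OX.tensor_map_shortExact (flat_rep (cl k a b)) hspl) h1 h2
  have seq := fun a b => OX.tensor_map_shortExact (flat_rep (cl k a b)) hS₀
  -- second cohomology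
  have hH2 : ∀ a b : ℤ, -2 ≤ a → -2 ≤ b →
      Subsingleton (Coh.HH (Z k) (CohB1.tensorMod (kernel m) (rep (cl k a b))) 2) := fun a b ha hb => by
    refine CMReg.subsingleton_X₁_succ (seq a b) (subsingleton_sigma_twist k e₃ a b 1 fun i j hij => ?_)
      (hQ a b 2 (subsingleton_sigma_twist k e₁ a b 2 fun i j hij => ?_)
        (subsingleton_sigma_twist k e₂ a b 2 fun i j hij => ?_))
    · rcases Nat.eq_zero_or_pos i with rfl | hi
      · exact Or.inr ⟨by omega, by omega⟩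
      · exact Or.inl ⟨by omega, by omega⟩
    · by_cases hi : i = 0
      · exact Or.inr ⟨by omega, by omega⟩
      · exact Or.inl ⟨by omega, by omega⟩
    · by_cases hj : j = 0
      · exact Or.inl ⟨by omega, by omega⟩
      · exact Or.inr ⟨by omega, by omega⟩
  -- the untwisted kernel
  have hQ1 : Subsingleton (Coh.HH (Z k) (Q₁ ⊞ Q₂) 1) := by
    refine CMReg.subsingleton_biprod
      (CMReg.subsingleton_of_iso e₁.symm (CMReg.subsingleton_HH_sigma _ fun _ => subsingleton_O2 k _ _ _ fun i j hij => ?_))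
      (CMReg.subsingleton_of_iso e₂.symm (CMReg.subsingleton_HH_sigma _ fun _ => subsingleton_O2 k _ _ _ fun i j hij => ?_))
    · rcases Nat.eq_zero_or_pos i with rfl | hi
      · exact Or.inr ⟨by omega, by omega⟩
      · exact Or.inl ⟨by omega, by omega⟩
    · rcases Nat.eq_zero_or_pos i with rfl | hi
      · exact Or.inr ⟨by omega, by omega⟩
      · exact Or.inl ⟨by omega, by omega⟩
  have hF1 : Subsingleton (Coh.HH (Z k) (kernel m) 1) := subsingleton_of_forall_eq 0 fun x => by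
    obtain ⟨y, rfl⟩ := (Cohom.exact₁ (A := k) hS₀ 0 x).1 (@Subsingleton.elim _ hQ1 _ _)
    obtain ⟨v, rfl⟩ := hm0 y
    exact (Cohom.exact₃ (A := k) hS₀ 0 _).2 ⟨v, rfl⟩
  have hF0 : Subsingleton (Coh.HH (Z k) (kernel m) 0) := by
    obtain ⟨f1, d1⟩ := finrank_sigma k (a := 1) (b := 0) (e₁ : Q₁ ≅ ∐ fun _ : Fin r => O2 k ((1 : ℕ) : ℤ) ((0 : ℕ) : ℤ))
    obtain ⟨f2, d2⟩ := finrank_sigma k (a := 0) (b := 1) (e₂ : Q₂ ≅ ∐ fun _ : Fin r => O2 k ((0 : ℕ) : ℤ) ((1 : ℕ) : ℤ))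
    obtain ⟨f3, d3⟩ := finrank_sigma k (a := 1) (b := 1) (e₃ : P ≅ ∐ fun _ : Fin r => O2 k ((1 : ℕ) : ℤ) ((1 : ℕ) : ℤ))
    haveI := f1
    haveI := f2
    haveI := f3
    obtain ⟨f4, d4⟩ := finrank_biprod Q₁ Q₂
    haveI := f4
    have hinj : Function.Injective (Cohom.hhMap k m 0) :=
      (LinearMap.injective_iff_surjective_of_finrank_eq_finrank (by rw [d4, d1, d2, d3]; ring)).2 hm0
    refine subsingleton_of_forall_eq 0 fun x => Euler.hhMap_zero_injective (A := k) hS₀ (hinj ?_)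
    rw [map_zero, map_zero]
    exact (Cohom.exact₂ (A := k) hS₀ 0 _).2 ⟨x, rfl⟩
  have hO : ∀ (a b : ℤ) (n : ℕ), Subsingleton (Coh.HH (Z k) (CohB1.tensorMod (kernel m) (rep (cl k a b))) n) →
      Subsingleton (Coh.HH (Z k) (CohB1.tensorMod (kernel m) (O2 k a b)) n) := fun a b n h =>
    CMReg.subsingleton_of_iso
      (Ample.LineData.tensorModMapIso (Iso.refl _) ((hasCls_rep' (cl k a b)).iso (hasCls_O2 k a b) rfl).some) h
  refine ⟨hF0, hF1, hO _ _ _ (hH2 _ _ le_rfl le_rfl), fun t => hO _ _ _ ?_⟩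
  rcases lt_or_ge t 0 with ht | ht
  · refine CMReg.subsingleton_X₁_succ (seq _ _) (subsingleton_sigma_twist k e₃ _ _ 0 fun i j hij => ?_)
      (hQ _ _ 1 (subsingleton_sigma_twist k e₁ _ _ 1 fun i j hij => ?_) (subsingleton_sigma_twist k e₂ _ _ 1 fun i j hij => ?_))
    · exact Or.inl ⟨by omega, by omega⟩
    · by_cases hi : i = 0
      · exact Or.inl ⟨by omega, by omega⟩
      · exact Or.inr ⟨by omega, by omega⟩
    · by_cases hj : j = 0
      · exact Or.inr ⟨by omega, by omega⟩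
      · exact Or.inl ⟨by omega, by omega⟩
  · lift t to ℕ using ht
    haveI := flat_pr k (pr1 k) (Or.inl rfl)
    haveI := flat_pr k (pr2 k) (Or.inr rfl)
    have htw : ∀ (x : ℕ), ProjPic26.tw 1 k 1 ^ x = ProjPic26.tw 1 k (x : ℤ) := fun x => by
      rw [ProjPic26.tw_eq_zpow 1 k (x : ℤ), zpow_natCast]
    have htw' : (ProjPic26.tw 1 k 1)⁻¹ = ProjPic26.tw 1 k (-1) := by
      rw [ProjPic26.tw_eq_zpow 1 k (-1 : ℤ), zpow_neg_one]
    have h00 : Subsingleton (Coh.HH (Z k) (CohB1.tensorMod (kernel m) (rep (cl k 0 0))) 1) := by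
      refine CMReg.subsingleton_of_iso ((OX.tensorUnitLeftIso (kernel m)).symm ≪≫ GrTilde.tensorModComm _ _ ≪≫
        Ample.LineData.tensorModMapIso (Iso.refl _)
          ((Cube.hasCls_structureModule (Z k)).iso (hasCls_rep' (cl k 0 0)) (cl_zero k).symm).some) hF1
    have hb : ∀ b : ℕ, Subsingleton (Coh.HH (Z k) (CohB1.tensorMod (kernel m) (rep (cl k 0 (b : ℤ)))) 1) := fun b => by
      have h := step k (pr2 k) hF (cl k 0 0) h00 (by
        have hc : cl k 0 0 * (pull (pr2 k) (ProjPic26.tw 1 k 1))⁻¹ = cl k 0 (-1) := by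
          rw [cl_zero, one_mul, ← map_inv, htw', cl, ProjPic26.tw_eq_zpow 1 k (0 : ℤ), zpow_zero, map_one, one_mul]
        rw [hc]; exact hH2 _ _ (by norm_num) (by norm_num)) b
      have hc : cl k 0 0 * pull (pr2 k) (ProjPic26.tw 1 k 1) ^ b = cl k 0 (b : ℤ) := by
        rw [cl_zero, one_mul, ← map_pow, htw, cl, ProjPic26.tw_eq_zpow 1 k (0 : ℤ), zpow_zero, map_one, one_mul]
      rwa [hc] at h
    have h := step k (pr1 k) hF (cl k 0 ((2 * t : ℕ) : ℤ)) (hb (2 * t)) (by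
      have hc : cl k 0 ((2 * t : ℕ) : ℤ) * (pull (pr1 k) (ProjPic26.tw 1 k 1))⁻¹ = cl k (-1) ((2 * t : ℕ) : ℤ) := by
        rw [← map_inv, htw', cl, cl, ProjPic26.tw_eq_zpow 1 k (0 : ℤ), zpow_zero, map_one, one_mul, mul_comm]
      rw [hc]; exact hH2 _ _ (by norm_num) (by omega)) (2 * t)
    have hc : cl k 0 ((2 * t : ℕ) : ℤ) * pull (pr1 k) (ProjPic26.tw 1 k 1) ^ (2 * t) =
        cl k (2 * (t : ℤ)) (2 * (t : ℤ)) := by
      rw [← map_pow, htw, cl, cl, ProjPic26.tw_eq_zpow 1 k (0 : ℤ), zpow_zero, map_one, one_mul, mul_comm]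
      push_cast
      rfl
    rwa [hc] at h

end GrothLib.Quad12
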