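import Groth.Agent.Lib.Quad12.Main
import Groth.Agent.Lib.SerrePn27.ExtHH
import Groth.Agent.Lib.FunMor20.Datum

/-!
# A generic matrix of linear forms on the quadric
-/

universe u

set_option autoImplicit false
set_option linter.all false
set_option backward.isDefEq.respectTransparency false
set_option maxHeartbeats 1000000

open CategoryTheory CategoryTheory.Limits AlgebraicGeometry

noncomputable section

namespace GrothLib.Quad12

open GrothLib.Cube (Pic clsMod pull HasCls hasCls_clsMod)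
open GrothLib.HodgeIndex (rep isInv_rep cls_rep)

/-- A pair of maps generating, with its witnesses. -/
structure Pr {X : Scheme.{u}} (K L' L : X.Modules) where
  Q : X.Modules
  k0 : K ⟶ L'
  q : L' ⟶ Q
  a0 : L' ⟶ L
  a1 : L' ⟶ L
  π : L ⟶ Q
  w' : k0 ≫ q = 0
  w : a0 ≫ π = 0
  hS' : (ShortComplex.mk k0 q w').ShortExact
  hS : (ShortComplex.mk a0 π w).ShortExact
  rel : a1 ≫ π = q

namespace Pr

variable {X : Scheme.{u}} {K L' L : X.Modules} (P : Pr K L' L)

def a : Fin 2 → (L' ⟶ L) := ![P.a0, P.a1]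

theorem hom_ext {W : X.Modules} {g : L ⟶ W} (h0 : P.a0 ≫ g = 0) (h1 : P.a1 ≫ g = 0) : g = 0 := by
  haveI : Epi P.π := P.hS.epi_g
  haveI : Epi P.q := P.hS'.epi_g
  obtain ⟨g', hg⟩ := CokernelCofork.IsColimit.desc' P.hS.gIsCokernel g h0
  change P.π ≫ g' = g at hg
  have h2 : P.q ≫ g' = 0 := by rw [← P.rel, Category.assoc, hg, h1]
  rw [← hg, (cancel_epi P.q).1 (h2.trans comp_zero.symm), comp_zero]

variable (k : Type u) [Field k] [X.Over (Spec (CommRingCat.of k))]

theorem surjective (hK : Subsingleton (Coh.HH X K 1)) (y : Coh.HH X L 0) :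
    ∃ v0 v1 : Coh.HH X L' 0, y = Cohom.hhMap k P.a0 0 v0 + Cohom.hhMap k P.a1 0 v1 := by
  obtain ⟨v1, hv1⟩ := (Cohom.exact₃ (A := k) P.hS' 0 (Cohom.hhMap k P.π 0 y)).1 (@Subsingleton.elim _ hK _ _)
  change Cohom.hhMap k P.q 0 v1 = _ at hv1
  have h : Cohom.hhMap k P.π 0 (y - Cohom.hhMap k P.a1 0 v1) = 0 := by
    rw [map_sub, ← Euler.hhMap_comp, P.rel, hv1, sub_self]
  obtain ⟨v0, hv0⟩ := (Cohom.exact₂ (A := k) P.hS 0 _).1 h
  exact ⟨v0, v1, (eq_add_of_sub_eq hv0.symm)⟩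

end Pr

variable (k : Type u) [Field k]

theorem exists_pr_of {X : Scheme.{u}} [X.Over (Spec (CommRingCat.of k))] {K Q L : X.Modules}
    (ι : K ⟶ Coh.structureModule X) (q : Coh.structureModule X ⟶ Q) (w : ι ≫ q = 0)
    (hS : (ShortComplex.mk ι q w).ShortExact) (hL : FlatMod.IsFlat L)
    (i1 : CohB1.tensorMod K L ≅ Coh.structureModule X) (i3 : CohB1.tensorMod Q L ≅ Q)
    (h1 : Subsingleton (Coh.HH X (Coh.structureModule X) 1)) :
    Nonempty (Pr K (Coh.structureModule X) L) := by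
  let F := (DCoh.tensorBi (X := X)).flip.obj L
  let a0 : Coh.structureModule X ⟶ L := i1.inv ≫ F.map ι ≫ (OX.tensorUnitLeftIso L).hom
  let π : L ⟶ Q := (OX.tensorUnitLeftIso L).inv ≫ F.map q ≫ i3.hom
  have w1 : a0 ≫ π = 0 := by
    simp only [a0, π, Category.assoc, Iso.hom_inv_id_assoc]
    rw [← Functor.map_comp_assoc, w, Functor.map_zero, zero_comp, comp_zero]
  have hS2 : (ShortComplex.mk a0 π w1).ShortExact := by
    refine ShortComplex.shortExact_of_iso ?_ (OX.tensor_map_shortExact hL hS)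
    exact ShortComplex.isoMk i1 (OX.tensorUnitLeftIso L) i3 (Iso.hom_inv_id_assoc i1 _)
      (Iso.hom_inv_id_assoc (OX.tensorUnitLeftIso L) _)
  obtain ⟨y, hy⟩ := (Cohom.exact₃ (A := k) hS2 0 (SerrePn27.homStructureEquiv (k := k) _ q)).1
    (Subsingleton.elim _ _)
  refine ⟨⟨_, ι, q, a0, (SerrePn27.homStructureEquiv (k := k) L).symm y, π, w, w1, hS, hS2, ?_⟩⟩
  refine (SerrePn27.homStructureEquiv (k := k) _).injective ?_
  rw [SerrePn27.homStructureEquiv_comp, LinearEquiv.apply_symm_apply]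
  exact hy

theorem exists_pr_P1 : Nonempty (Pr (Twist.twistProjSpace 1 k (-1)) (Coh.structureModule (CohB1.ProjSpace 1 k))
    (Twist.twistProjSpace 1 k 1)) := by
  obtain ⟨j, hj, ι, w, hS, hjs, ⟨e1⟩⟩ := CMReg.exists_hyperplane (n := 0) (k := k)
  have hi := fun t : ℤ => ProjPic26.isInvertible_twistProjSpace 1 k t
  obtain ⟨i1⟩ := ((hasCls_clsMod (hi (-1))).tensor (hasCls_clsMod (hi 1))).iso
    (Cube.hasCls_structureModule (CohB1.ProjSpace 1 k))
    (show ProjPic26.tw 1 k (-1) * ProjPic26.tw 1 k 1 = 1 by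
      rw [← ProjPic26.tw_add, ProjPic26.tw_eq_zpow, neg_add_cancel, zpow_zero])
  obtain ⟨q1⟩ := CMReg.nonempty_tensorMod_push j (Twist.twistProjSpace 1 k 1) (Euler.isFinLocFree_of_isInvertible (hi 1))
  obtain ⟨q2⟩ := CMReg.nonempty_pullback_twist ⟨e1⟩ (1 : ℤ)
  obtain ⟨q3⟩ := DualQCoh12.nonempty_twist_iso_zero (R := k) (1 : ℤ)
  letI : (CohB1.ProjSpace 1 k).Over (Spec (CommRingCat.of k)) := ⟨CohB1.ProjSpace.toSpec 1 k⟩
  exact exists_pr_of k ι (ClSub.unitToPush j) w hS (OX.flat_of_isFinLocFree (Euler.isFinLocFree_of_isInvertible (hi 1)))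
    i1 (q1 ≪≫ (Scheme.Modules.pushforward j).mapIso (q2 ≪≫ q3.symm))
    (CMReg.subsingleton_of_iso (CMReg.nonempty_twist_zero (n := 1) (k := k)).some
      (ProjCohom.subsingleton_HH (R := k) (n := 1) (d := 0) (q := 1) (by simp) (by omega)))

theorem exists_pr (p : Z k ⟶ CohB1.ProjSpace 1 k) [Flat p] :
    Nonempty (Pr ((Scheme.Modules.pullback p).obj (Twist.twistProjSpace 1 k (-1))) (Coh.structureModule (Z k))
      ((Scheme.Modules.pullback p).obj (Twist.twistProjSpace 1 k 1))) := by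
  obtain ⟨P⟩ := exists_pr_P1 k
  let F := Scheme.Modules.pullback p
  let η := OX.pullUnitIso p
  refine ⟨⟨F.obj P.Q, F.map P.k0 ≫ η.hom, η.inv ≫ F.map P.q, η.inv ≫ F.map P.a0, η.inv ≫ F.map P.a1, F.map P.π,
    ?_, ?_, ?_, ?_, ?_⟩⟩
  · simp only [Category.assoc, Iso.hom_inv_id_assoc]; rw [← F.map_comp, P.w', F.map_zero]
  · rw [Category.assoc, ← F.map_comp, P.w, F.map_zero, comp_zero]
  · refine ShortComplex.shortExact_of_iso ?_ (EulerPull.shortExact_pullback p P.hS')
    exact ShortComplex.isoMk (Iso.refl _) η (Iso.refl _) (Category.id_comp _)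
      ((Iso.hom_inv_id_assoc η _).trans (Category.comp_id _).symm)
  · refine ShortComplex.shortExact_of_iso ?_ (EulerPull.shortExact_pullback p P.hS)
    exact ShortComplex.isoMk η (Iso.refl _) (Iso.refl _) ((Iso.hom_inv_id_assoc η _).trans (Category.comp_id _).symm)
      ((Category.id_comp _).trans (Category.comp_id _).symm)
  · rw [Category.assoc, ← F.map_comp, P.rel]

/-- Tensoring a pair with an invertible module. -/
theorem Pr.exists_tensor {X : Scheme.{u}} {K L : X.Modules} (P : Pr K (Coh.structureModule X) L) {B : X.Modules}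
    (hB : PicF.IsInvertible B) :
    ∃ P' : Pr (CohB1.tensorMod K B) B (CohB1.tensorMod L B),
      P'.a0 = (OX.tensorUnitLeftIso B).inv ≫ ((DCoh.tensorBi (X := X)).map P.a0).app B ∧
      P'.a1 = (OX.tensorUnitLeftIso B).inv ≫ ((DCoh.tensorBi (X := X)).map P.a1).app B := by
  let F := (DCoh.tensorBi (X := X)).flip.obj B
  have hfl : FlatMod.IsFlat B := OX.flat_of_isFinLocFree (Euler.isFinLocFree_of_isInvertible hB)
  let l := OX.tensorUnitLeftIso B
  refine ⟨⟨F.obj P.Q, F.map P.k0 ≫ l.hom, l.inv ≫ F.map P.q, l.inv ≫ F.map P.a0, l.inv ≫ F.map P.a1, F.map P.π,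
    ?_, ?_, ?_, ?_, ?_⟩, rfl, rfl⟩
  · simp only [Category.assoc, Iso.hom_inv_id_assoc]; rw [← F.map_comp, P.w', F.map_zero]
  · rw [Category.assoc, ← F.map_comp, P.w, F.map_zero, comp_zero]
  · refine ShortComplex.shortExact_of_iso ?_ (OX.tensor_map_shortExact hfl P.hS')
    exact ShortComplex.isoMk (Iso.refl _) l (Iso.refl _) (Category.id_comp _)
      ((Iso.hom_inv_id_assoc l _).trans (Category.comp_id _).symm)
  · refine ShortComplex.shortExact_of_iso ?_ (OX.tensor_map_shortExact hfl P.hS)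
    exact ShortComplex.isoMk l (Iso.refl _) (Iso.refl _) ((Iso.hom_inv_id_assoc l _).trans (Category.comp_id _).symm)
      ((Category.id_comp _).trans (Category.comp_id _).symm)
  · rw [Category.assoc, ← F.map_comp, P.rel]

/-- The right unit. -/
def rU {X : Scheme.{u}} (F : X.Modules) : ((DCoh.tensorBi (X := X)).obj F).obj (Coh.structureModule X) ≅ F :=
  (((OX.tensorBraiding (X := X)).app F).app (Coh.structureModule X)).symm ≪≫ OX.tensorUnitLeftIso F

theorem rU_natural {X : Scheme.{u}} {F G : X.Modules} (a : F ⟶ G) :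
    ((DCoh.tensorBi (X := X)).map a).app (Coh.structureModule X) ≫ (rU G).hom = (rU F).hom ≫ a := by
  have h := congrArg (fun t => t.app (Coh.structureModule X)) ((OX.tensorBraiding (X := X)).inv.naturality a)
  simp only [NatTrans.comp_app] at h
  simp only [rU, Iso.trans_hom, Iso.symm_hom, Iso.app_inv]
  rw [reassoc_of% h]
  exact (congrArg _ (FunMor20.tensorUnitLeftIso_natural a)).trans (Category.assoc _ _ _).symm

/-- **The two ways of multiplying sections differ by a unit.** -/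
theorem mul_swap {X : Scheme.{u}} {A B : X.Modules} (a : Coh.structureModule X ⟶ A) (b : Coh.structureModule X ⟶ B) :
    a ≫ (rU A).inv ≫ ((DCoh.tensorBi (X := X)).obj A).map b =
      ((rU (Coh.structureModule X)).inv ≫ (OX.tensorUnitLeftIso (Coh.structureModule X)).hom) ≫
        b ≫ (OX.tensorUnitLeftIso B).inv ≫ ((DCoh.tensorBi (X := X)).map a).app B := by
  have h1 : a ≫ (rU A).inv = (rU (Coh.structureModule X)).inv ≫
      ((DCoh.tensorBi (X := X)).map a).app (Coh.structureModule X) := by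
    rw [Iso.comp_inv_eq, Category.assoc, rU_natural, Iso.inv_hom_id_assoc]
  have h2 : (OX.tensorUnitLeftIso (Coh.structureModule X)).hom ≫ b ≫ (OX.tensorUnitLeftIso B).inv =
      ((DCoh.tensorBi (X := X)).obj (Coh.structureModule X)).map b := by
    rw [← Category.assoc, Iso.comp_inv_eq, FunMor20.tensorUnitLeftIso_natural]
  rw [← Category.assoc, h1, Category.assoc, Category.assoc, reassoc_of% h2, NatTrans.naturality]

/-- **An epimorphism surjective on sections.** -/
theorem exists_epi [CharZero k] (r : ℕ) (hr : 2 ≤ r) :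
    ∃ m : (∐ fun _ : Fin r => O2 k 1 0) ⊞ (∐ fun _ : Fin r => O2 k 0 1) ⟶ ∐ fun _ : Fin r => O2 k 1 1,
      Epi m ∧ Function.Surjective (Cohom.hhMap k m 0) := by
  haveI := flat_pr k (pr1 k) (Or.inl rfl)
  haveI := flat_pr k (pr2 k) (Or.inr rfl)
  obtain ⟨PA⟩ := exists_pr k (pr1 k)
  obtain ⟨PB⟩ := exists_pr k (pr2 k)
  let A := (Scheme.Modules.pullback (pr1 k)).obj (Twist.twistProjSpace 1 k 1)
  let B := (Scheme.Modules.pullback (pr2 k)).obj (Twist.twistProjSpace 1 k 1)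
  let O := Coh.structureModule (Z k)
  have htw0 : ProjPic26.tw 1 k 0 = 1 := by rw [ProjPic26.tw_eq_zpow, zpow_zero]
  have hA : HasCls A (cl k 1 0) := by
    rw [cl, htw0, map_one, mul_one]; exact hasCls_pr k _ 1
  have hB : HasCls B (cl k 0 1) := by
    rw [cl, htw0, map_one, one_mul]; exact hasCls_pr k _ 1
  obtain ⟨εA⟩ := hA.iso (hasCls_O2 k 1 0) rfl
  obtain ⟨εB⟩ := hB.iso (hasCls_O2 k 0 1) rfl
  obtain ⟨PT, hT0, hT1⟩ := PA.exists_tensor hB.1
  let T := O2 k 1 1
  let α : Fin 2 → (B ⟶ T) := fun l => (OX.tensorUnitLeftIso B).inv ≫ ((DCoh.tensorBi (X := Z k)).map (PA.a l)).app B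
  let β : Fin 2 → (A ⟶ T) := fun l => (rU A).inv ≫ ((DCoh.tensorBi (X := Z k)).obj A).map (PB.a l)
  let c : O ≅ O := (rU O).symm ≪≫ OX.tensorUnitLeftIso O
  let e : Fin 2 → Fin 2 → (O ⟶ T) := fun l j => PB.a j ≫ α l
  have hswap : ∀ l j, c.inv ≫ PA.a l ≫ β j = e l j := fun l j => by
    rw [Iso.inv_comp_eq]; exact mul_swap _ _
  let σ : Fin r ≃ Fin r := finRotate r
  have hσ : ∀ i, σ i ≠ i := fun i h => by
    obtain ⟨r', rfl⟩ : ∃ r', r = r' + 2 := ⟨r - 2, by omega⟩
    rw [show σ i = i + 1 from finRotate_succ_apply i] at h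
    exact one_ne_zero (add_eq_left.1 h : (1 : Fin (r' + 2)) = 0)
  let ι : Fin r → (T ⟶ ∐ fun _ : Fin r => T) := fun i => Sigma.ι (fun _ : Fin r => T) i
  let m : (∐ fun _ : Fin r => O2 k 1 0) ⊞ (∐ fun _ : Fin r => O2 k 0 1) ⟶ ∐ fun _ : Fin r => T :=
    biprod.desc (Sigma.desc fun i : Fin r => εA.inv ≫ (β 0 + (i : ℕ) • β 1) ≫ ι i)
      (Sigma.desc fun i : Fin r => εB.inv ≫ (α 0 ≫ ι i + α 1 ≫ ι (σ i)))
  let el := fun {M : (Z k).Modules} (f : O ⟶ M) => SerrePn27.homStructureEquiv (k := k) M f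
  let E : Fin 2 → Fin 2 → Fin r → Coh.HH (Z k) (∐ fun _ : Fin r => T) 0 := fun l j i => el (e l j ≫ ι i)
  let Im := LinearMap.range (Cohom.hhMap k m 0)
  have hmem : ∀ f : O ⟶ (∐ fun _ : Fin r => O2 k 1 0) ⊞ (∐ fun _ : Fin r => O2 k 0 1), el (f ≫ m) ∈ Im := fun f => by
    refine ⟨el f, ?_⟩
    exact (SerrePn27.homStructureEquiv_comp f m).symm
  have r1 : ∀ l i, E l 0 i + ((i : ℕ) : k) • E l 1 i ∈ Im := fun l i => by
    have h := hmem (c.inv ≫ PA.a l ≫ εA.hom ≫ Sigma.ι (fun _ : Fin r => O2 k 1 0) i ≫ biprod.inl)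
    simp only [m, el, Category.assoc, biprod.inl_desc, Sigma.ι_desc, Iso.hom_inv_id_assoc, Preadditive.comp_add,
      Preadditive.add_comp, Preadditive.comp_nsmul, Preadditive.nsmul_comp, map_add, map_nsmul] at h
    simp only [← Category.assoc] at h
    simp only [Category.assoc c.inv, hswap, ← Nat.cast_smul_eq_nsmul k] at h
    exact h
  have r2 : ∀ j i, E 0 j i + E 1 j (σ i) ∈ Im := fun j i => by
    have h := hmem (PB.a j ≫ εB.hom ≫ Sigma.ι (fun _ : Fin r => O2 k 0 1) i ≫ biprod.inr)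
    simp only [m, el, Category.assoc, biprod.inr_desc, Sigma.ι_desc, Iso.hom_inv_id_assoc, Preadditive.comp_add,
      map_add] at h
    simpa only [E, e, el, Category.assoc] using h
  have hE : ∀ l j i, E l j i ∈ Im := by
    have h11 : ∀ i, E 1 1 i ∈ Im := fun i => by
      obtain ⟨i, rfl⟩ := σ.surjective i
      have h := Im.sub_mem (Im.sub_mem (Im.add_mem (r2 0 i) (Im.smul_mem ((i : ℕ) : k) (r2 1 i))) (r1 0 i)) (r1 1 (σ i))
      have e' : (((i : ℕ) : k) - ((σ i : ℕ) : k)) • E 1 1 (σ i) ∈ Im := by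
        convert h using 1
        module
      refine (Submodule.smul_mem_iff Im (sub_ne_zero.2 fun hh => hσ i (Fin.ext ?_))).1 e'
      exact (Nat.cast_injective hh).symm
    have h10 : ∀ i, E 1 0 i ∈ Im := fun i => by
      have h := Im.sub_mem (r1 1 i) (Im.smul_mem ((i : ℕ) : k) (h11 i))
      rwa [add_sub_cancel_right] at h
    intro l j i
    fin_cases l
    · fin_cases j
      · simpa using Im.sub_mem (r2 0 i) (h10 (σ i))
      · simpa using Im.sub_mem (r2 1 i) (h11 (σ i))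
    · fin_cases j
      · exact h10 i
      · exact h11 i
  -- constants
  have hO1 : Module.finrank k (Coh.HH (Z k) O 0) = 1 := by
    obtain ⟨g⟩ := (Cube.hasCls_structureModule (Z k)).iso (hasCls_O2 k 0 0) (cl_zero k).symm
    rw [(Euler.hhEquiv (A := k) g 0).finrank_eq]
    exact finrank_O2 k 0 0
  have hone : el (𝟙 O) ≠ 0 := fun h => by
    have hid : (𝟙 O) = 0 := (SerrePn27.homStructureEquiv (k := k) O).injective (h.trans (map_zero _).symm)
    haveI : Subsingleton (Coh.HH (Z k) O 0) := subsingleton_of_forall_eq 0 fun x => by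
      obtain ⟨f, rfl⟩ := (SerrePn27.homStructureEquiv (k := k) O).surjective x
      rw [← Category.comp_id f, hid, comp_zero, map_zero]
    rw [Module.finrank_zero_of_subsingleton] at hO1
    omega
  have hW : ∀ (f : O ⟶ ∐ fun _ : Fin r => T), el f ∈ Im → ∀ v, Cohom.hhMap k f 0 v ∈ Im := fun f hf v => by
    obtain ⟨κ, rfl⟩ := exists_smul_eq_of_finrank_eq_one hO1 hone v
    rw [map_smul]
    refine Im.smul_mem κ ?_
    rw [← SerrePn27.homStructureEquiv_comp, Category.id_comp]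
    exact hf
  -- every section
  have hKB : Subsingleton (Coh.HH (Z k) ((Scheme.Modules.pullback (pr2 k)).obj (Twist.twistProjSpace 1 k (-1))) 1) := by
    have h : HasCls ((Scheme.Modules.pullback (pr2 k)).obj (Twist.twistProjSpace 1 k (-1))) (cl k 0 (-1)) := by
      rw [cl, htw0, map_one, one_mul]; exact hasCls_pr k _ _
    refine CMReg.subsingleton_of_iso (h.iso (hasCls_O2 k 0 (-1)) rfl).some.symm (subsingleton_O2 k _ _ _ fun i j hij => ?_)
    exact Or.inr ⟨by omega, by omega⟩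
  have hKT : Subsingleton (Coh.HH (Z k)
      (CohB1.tensorMod ((Scheme.Modules.pullback (pr1 k)).obj (Twist.twistProjSpace 1 k (-1))) B) 1) := by
    have h : HasCls ((Scheme.Modules.pullback (pr1 k)).obj (Twist.twistProjSpace 1 k (-1))) (cl k (-1) 0) := by
      rw [cl, htw0, map_one, mul_one]; exact hasCls_pr k _ _
    refine CMReg.subsingleton_of_iso ((h.tensor hB).iso (hasCls_O2 k (-1) 1) (cl_mul k (-1) 0 0 1)).some.symm
      (subsingleton_O2 k _ _ _ fun i j hij => ?_)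
    exact Or.inl ⟨by omega, by omega⟩
  have hT : ∀ i (y : Coh.HH (Z k) T 0), Cohom.hhMap k (ι i) 0 y ∈ Im := fun i y => by
    have hB' : ∀ l (v : Coh.HH (Z k) B 0), Cohom.hhMap k (α l ≫ ι i) 0 v ∈ Im := fun l v => by
      obtain ⟨w0, w1, rfl⟩ := PB.surjective k hKB v
      rw [map_add, ← Euler.hhMap_comp, ← Euler.hhMap_comp, ← Category.assoc, ← Category.assoc]
      exact Im.add_mem (hW _ (hE l 0 i) _) (hW _ (hE l 1 i) _)
    obtain ⟨v0, v1, rfl⟩ := PT.surjective k hKT y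
    rw [map_add, ← Euler.hhMap_comp, ← Euler.hhMap_comp, hT0, hT1]
    exact Im.add_mem (hB' 0 v0) (hB' 1 v1)
  have hsurj : Function.Surjective (Cohom.hhMap k m 0) := fun x => by
    let p : Fin r → ((∐ fun _ : Fin r => T) ⟶ T) := fun i => Sigma.desc fun j => if j = i then 𝟙 T else 0
    have hsum : ∑ i, p i ≫ ι i = 𝟙 (∐ fun _ : Fin r => T) := by
      refine Sigma.hom_ext _ _ fun j => ?_
      rw [Preadditive.comp_sum, Category.comp_id, Finset.sum_eq_single j]
      · simp [p, ι]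
      · intro i _ hi
        simp [p, Ne.symm hi]
      · simp
    let Φ : ((∐ fun _ : Fin r => T) ⟶ ∐ fun _ : Fin r => T) →+ Coh.HH (Z k) (∐ fun _ : Fin r => T) 0 :=
      AddMonoidHom.mk' (fun f => Cohom.hhMap k f 0 x) fun f g => CurveRR.hhMap_add (A := k) f g 0 x
    have hx : Φ (𝟙 _) ∈ Im := by
      rw [← hsum, map_sum]
      exact Im.sum_mem fun i _ => by
        show Cohom.hhMap k (p i ≫ ι i) 0 x ∈ Im
        rw [Euler.hhMap_comp]; exact hT i _
    rw [show Φ (𝟙 _) = x from Euler.hhMap_id (A := k) _ 0 x] at hx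
    exact hx
  refine ⟨m, Preadditive.epi_of_cancel_zero m fun g hg => Sigma.hom_ext _ _ fun i => ?_, hsurj⟩
  rw [comp_zero]
  have h0 : ∀ l j, e l j ≫ ι i ≫ g = 0 := fun l j => by
    refine (SerrePn27.homStructureEquiv (k := k) _).injective ?_
    obtain ⟨v, hv⟩ := hE l j i
    rw [← Category.assoc, SerrePn27.homStructureEquiv_comp, map_zero]
    show Cohom.hhMap k g 0 (E l j i) = 0
    rw [← hv, ← Euler.hhMap_comp, hg]
    exact add_eq_left.1 (by rw [← CurveRR.hhMap_add, add_zero] : Cohom.hhMap k (0 : _ ⟶ _) 0 v + Cohom.hhMap k (0 : _ ⟶ _) 0 v = Cohom.hhMap k (0 : _ ⟶ _) 0 v)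
  have h1 : ∀ l, α l ≫ ι i ≫ g = 0 := fun l =>
    PB.hom_ext ((Category.assoc _ _ _).symm.trans (h0 l 0)) ((Category.assoc _ _ _).symm.trans (h0 l 1))
  refine PT.hom_ext ?_ ?_
  · rw [hT0]; exact h1 0
  · rw [hT1]; exact h1 1

end GrothLib.Quad12
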